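import Groth.Agent.Lib.NormalExt.Basic
import Mathlib.AlgebraicGeometry.Morphisms.Finite
import Mathlib.RingTheory.IntegralClosure.GoingDown
import Mathlib.AlgebraicGeometry.Morphisms.UniversallyOpen

/-!
# Going down for integral surjective morphisms onto normal integral schemes
-/

set_option autoImplicit false
set_option linter.all false

universe u

open CategoryTheory AlgebraicGeometry TopologicalSpace

namespace GrothLib.FinNormalGD

theorem generalizingMap {X Y : Scheme.{u}} (f : X ⟶ Y) [IsIntegral X] [IsIntegral Y]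
    [IsIntegralHom f] [Surjective f] (hY : ∀ y : Y, IsIntegrallyClosed (Y.presheaf.stalk y)) :
    GeneralizingMap f := by
  intro x y hyx
  obtain ⟨_, ⟨U, hU, rfl⟩, hxU, -⟩ := Y.isBasis_affineOpens.exists_subset_of_mem_open
    (Set.mem_univ (f x)) isOpen_univ
  have hU' : IsAffineOpen (f ⁻¹ᵁ U) := hU.preimage f
  have : Nonempty U := ⟨⟨f x, hxU⟩⟩
  have : Nonempty (f ⁻¹ᵁ U : X.Opens) := ⟨⟨x, hxU⟩⟩
  have : IsIntegrallyClosed Γ(Y, U) := NormalExt.isIntegrallyClosed_Γ hY U hU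
  have hyU : y ∈ U := hyx.mem_open U.2 hxU
  have h := f.appLE U (f ⁻¹ᵁ U) le_rfl
  letI : Algebra Γ(Y, U) Γ(X, f ⁻¹ᵁ U) := (f.app U).hom.toAlgebra
  have : Algebra.IsIntegral Γ(Y, U) Γ(X, f ⁻¹ᵁ U) := ⟨IsIntegralHom.isIntegral_app f U hU⟩
  have hinj : FaithfulSMul Γ(Y, U) Γ(X, f ⁻¹ᵁ U) := by
    rw [faithfulSMul_iff_algebraMap_injective, injective_iff_map_eq_zero]
    intro a ha
    by_contra ha0
    have hne : (Y.basicOpen a : Set Y).Nonempty := by
      rw [Set.nonempty_iff_ne_empty]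
      intro he
      exact ha0 ((AlgebraicGeometry.basicOpen_eq_bot_iff a).1 (Opens.ext he))
    obtain ⟨y', hy'⟩ := hne
    obtain ⟨x', rfl⟩ := f.surjective y'
    have : x' ∈ X.basicOpen ((f.app U).hom a) := by
      rw [← Scheme.preimage_basicOpen]; exact hy'
    rw [show (f.app U).hom a = 0 from ha, X.basicOpen_zero] at this
    exact this.elim
  obtain ⟨p, rfl⟩ : y ∈ Set.range hU.fromSpec := by rw [hU.range_fromSpec]; exact hyU
  obtain ⟨q, hq⟩ : x ∈ Set.range hU'.fromSpec := by rw [hU'.range_fromSpec]; exact hxU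
  subst hq
  have hsq : Spec.map (f.app U) ≫ hU.fromSpec = hU'.fromSpec ≫ f := by
    rw [← IsAffineOpen.SpecMap_appLE_fromSpec f hU hU' le_rfl, Scheme.Hom.app_eq_appLE]
  have hq : hU.fromSpec (Spec.map (f.app U) q) = f (hU'.fromSpec q) := congr($hsq q)
  have hle : p ⤳ Spec.map (f.app U) q := by
    haveI := hU.isOpenImmersion_fromSpec
    rw [← hU.fromSpec.isOpenEmbedding.toIsInducing.specializes_iff, hq]
    exact hyx
  obtain ⟨q', hq', hq'p⟩ := Algebra.HasGoingDown.iff_generalizingMap_primeSpectrumComap.1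
    (inferInstance : Algebra.HasGoingDown Γ(Y, U) Γ(X, f ⁻¹ᵁ U)) hle
  refine ⟨hU'.fromSpec q', hq'.map hU'.fromSpec.continuous, ?_⟩
  refine (congr($hsq q')).symm.trans ?_
  exact congrArg hU.fromSpec hq'p

/-- A finite morphism has no specializations inside its fibres. -/
theorem eq_of_specializes {X Y : Scheme.{u}} (f : X ⟶ Y) [IsIntegralHom f] {a b : X}
    (h : a ⤳ b) (hf : f a = f b) : a = b := by
  obtain ⟨_, ⟨U, hU, rfl⟩, hbU, -⟩ := Y.isBasis_affineOpens.exists_subset_of_mem_open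
    (Set.mem_univ (f b)) isOpen_univ
  have hU' : IsAffineOpen (f ⁻¹ᵁ U) := hU.preimage f
  have haU : a ∈ f ⁻¹ᵁ U := h.mem_open (f ⁻¹ᵁ U).2 hbU
  obtain ⟨q₁, hq₁⟩ : a ∈ Set.range hU'.fromSpec := by rw [hU'.range_fromSpec]; exact haU
  obtain ⟨q₂, hq₂⟩ : b ∈ Set.range hU'.fromSpec := by rw [hU'.range_fromSpec]; exact hbU
  subst hq₁ hq₂
  have hsq : Spec.map (f.app U) ≫ hU.fromSpec = hU'.fromSpec ≫ f := by
    rw [← IsAffineOpen.SpecMap_appLE_fromSpec f hU hU' le_rfl, Scheme.Hom.app_eq_appLE]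
  haveI := hU.isOpenImmersion_fromSpec
  haveI := hU'.isOpenImmersion_fromSpec
  have he : Spec.map (f.app U) q₁ = Spec.map (f.app U) q₂ := by
    apply hU.fromSpec.isOpenEmbedding.injective
    exact (congr($hsq q₁)).trans (hf.trans (congr($hsq q₂)).symm)
  rw [hU'.fromSpec.isOpenEmbedding.toIsInducing.specializes_iff] at h
  have h' : q₁.asIdeal ≤ q₂.asIdeal := (PrimeSpectrum.le_iff_specializes q₁ q₂).2 h
  refine congrArg hU'.fromSpec ?_
  by_contra hne
  letI : Algebra Γ(Y, U) Γ(X, f ⁻¹ᵁ U) := (f.app U).hom.toAlgebra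
  have : Algebra.IsIntegral Γ(Y, U) Γ(X, f ⁻¹ᵁ U) := ⟨IsIntegralHom.isIntegral_app f U hU⟩
  have hlt : q₁.asIdeal < q₂.asIdeal := lt_of_le_of_ne h' fun e => hne (PrimeSpectrum.ext e)
  exact absurd (congrArg PrimeSpectrum.asIdeal he) (Ideal.IsIntegral.comap_lt_comap (R := Γ(Y, U)) hlt).ne

end GrothLib.FinNormalGD
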